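import Groth.Agent.ProjUPLib.TwistOne
import Groth.Agent.EGA2G.ProjSub

/-!
# Global sections of `O(1)` are elements of degree one
-/

set_option autoImplicit false
set_option backward.isDefEq.respectTransparency false
set_option backward.isDefEq.respectTransparency.types false

noncomputable section

universe u

open CategoryTheory AlgebraicGeometry Opposite TopologicalSpace HomogeneousLocalization
open Groth.Agent.QCohBase Groth.Agent.GenLocus Groth.Agent.ProjUPLib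

namespace Groth.Agent.ProjHyper

variable {R A : Type u} [CommRing R] [CommRing A] [Algebra R A] (𝒜 : ℕ → Submodule R A) [GradedAlgebra 𝒜]

/-- Local form of a section of `O(1)`. -/
theorem exists_local {f : A} (hf : f ∈ 𝒜 1) (σ : Γ(Twist.twist 𝒜 1, ⊤)) :
    ∃ (m : ℕ) (P : A) (hP : P ∈ 𝒜 (m • 1)),
      (Proj.awayToSection 𝒜 f).hom (Away.mk 𝒜 hf m P hP) •
          mres _ (le_top : Proj.basicOpen 𝒜 f ≤ ⊤) (oneSec 𝒜 hf) = mres _ le_top σ := by
  obtain ⟨r, hr⟩ := (isFrame_oneSec 𝒜 hf).bijective.2 (mres _ (le_top : Proj.basicOpen 𝒜 f ≤ ⊤) σ)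
  obtain ⟨a, rfl⟩ := (EGA2G.awayToSection_bijective 𝒜 hf one_pos).2 r
  obtain ⟨m, P, hP, rfl⟩ := Away.mk_surjective 𝒜 hf a
  exact ⟨m, P, hP, hr⟩

/-- Restriction in terms of `awayMap`. -/
theorem res_awayMap {f g x : A} {d : ℕ} (hg : g ∈ 𝒜 d) (hx : x = f * g) (a : Away 𝒜 f)
    (h : Proj.basicOpen 𝒜 x ≤ Proj.basicOpen 𝒜 f) :
    (Proj.awayToSection 𝒜 x).hom (awayMap 𝒜 hg hx a) = QCohBase.ores h ((Proj.awayToSection 𝒜 f).hom a) := by
  have e := RingHom.congr_fun (congrArg CommRingCat.Hom.hom (Proj.awayMap_awayToSection 𝒜 hg hx)) a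
  rw [CommRingCat.hom_comp, CommRingCat.hom_comp] at e
  exact e

variable [IsDomain A]

/-- Equal restrictions of fractions to an overlap are equal after cross multiplication. -/
theorem rel_of_eq {f g : A} (hf : f ∈ 𝒜 1) (hg : g ∈ 𝒜 1) (hf0 : f ≠ 0) (hg0 : g ≠ 0)
    {σ : Γ(Twist.twist 𝒜 1, ⊤)} {m l : ℕ} {P Q : A} (hP : P ∈ 𝒜 (m • 1)) (hQ : Q ∈ 𝒜 (l • 1))
    (hσf : (Proj.awayToSection 𝒜 f).hom (Away.mk 𝒜 hf m P hP) •
          mres _ (le_top : Proj.basicOpen 𝒜 f ≤ ⊤) (oneSec 𝒜 hf) = mres _ le_top σ)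
    (hσg : (Proj.awayToSection 𝒜 g).hom (Away.mk 𝒜 hg l Q hQ) •
          mres _ (le_top : Proj.basicOpen 𝒜 g ≤ ⊤) (oneSec 𝒜 hg) = mres _ le_top σ) :
    P * f * g ^ (l + 1) = Q * f ^ m * g ^ 2 := by
  have hg1 : g ∈ 𝒜 (1 • 1) := by simpa using hg
  have hlf : Proj.basicOpen 𝒜 (f * g) ≤ Proj.basicOpen 𝒜 f := Proj.basicOpen_mono _ _ _ ⟨_, rfl⟩
  have hlg : Proj.basicOpen 𝒜 (f * g) ≤ Proj.basicOpen 𝒜 g := Proj.basicOpen_mono _ _ _ ⟨f, mul_comm f g⟩
  have rf := fun a => res_awayMap 𝒜 hg (rfl : f * g = f * g) a hlf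
  have rg := fun a => res_awayMap 𝒜 hf (mul_comm f g : f * g = g * f) a hlg
  have e1 := congrArg (mres (Twist.twist 𝒜 1) hlf) hσf
  have e2 := congrArg (mres (Twist.twist 𝒜 1) hlg) hσg
  have e3 := congrArg (mres (Twist.twist 𝒜 1) hlf) (oneSec_rel 𝒜 hf hg hg1)
  simp only [mres_smul, mres_mres] at e1 e2 e3
  rw [← e3, smul_smul, ← rf, ← rg, ← map_mul] at e2
  rw [← rf] at e1
  have e4 := ((isFrame_oneSec 𝒜 hf).res hlf).bijective.1
    (a₁ := (Proj.awayToSection 𝒜 (f * g)).hom (awayMap 𝒜 hg (rfl : f * g = f * g) (Away.mk 𝒜 hf m P hP)))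
    (by simpa only [mres_mres] using e1.trans e2.symm)
  have e5 := congrArg HomogeneousLocalization.val
    ((EGA2G.awayToSection_bijective 𝒜 (SetLike.mul_mem_graded hf hg) (by norm_num)).1 e4)
  simp only [HomogeneousLocalization.val_mul, awayMap_mk, Away.val_mk, Localization.mk_mul,
    Localization.mk_eq_mk_iff, Localization.r_iff_exists, Submonoid.coe_mul] at e5
  obtain ⟨⟨_, c, rfl⟩, hc⟩ := e5
  have hfg : f * g ≠ 0 := mul_ne_zero hf0 hg0
  have hc' := mul_left_cancel₀ (pow_ne_zero c hfg) hc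
  refine mul_left_cancel₀ (mul_ne_zero (pow_ne_zero l hf0) (pow_ne_zero m hg0)) ?_
  linear_combination hc'

/-- Cancellation of a degree one factor preserves homogeneity. -/
theorem mem_of_mul_mem {f : A} (hf : f ∈ 𝒜 1) (hf0 : f ≠ 0) {b : A} {m : ℕ} (h : f * b ∈ 𝒜 (m + 1)) :
    b ∈ 𝒜 m := by
  classical
  have h1 := DirectSum.coe_decompose_mul_of_left_mem_of_le 𝒜 (b := b) hf (Nat.le_add_left 1 m)
  rw [DirectSum.decompose_of_mem_same 𝒜 h, Nat.add_sub_cancel] at h1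
  rw [mul_left_cancel₀ hf0 h1]
  exact (DirectSum.decompose 𝒜 b m).2

/-- A section of `O(1)` is given by an element of degree one. -/
theorem exists_oneSec_eq {f : A} (hf : f ∈ 𝒜 1) (hfp : Prime f) (S : Set A) (hS : ∀ g ∈ S, g ∈ 𝒜 1 ∧ ¬ f ∣ g)
    (hcov : (HomogeneousIdeal.irrelevant 𝒜).toIdeal ≤ Ideal.span (insert f S)) (hSne : S.Nonempty)
    (σ : Γ(Twist.twist 𝒜 1, ⊤)) : ∃ (h : A) (hh : h ∈ 𝒜 1), σ = oneSec 𝒜 hh := by
  obtain ⟨g₀, hg₀⟩ := hSne
  have hf0 := hfp.ne_zero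
  have hne : ∀ g ∈ S, g ≠ 0 := fun g hg h => (hS g hg).2 (h ▸ dvd_zero f)
  have red : ∀ (m : ℕ) (P : A) (hP : P ∈ 𝒜 (m • 1)),
      (Proj.awayToSection 𝒜 f).hom (Away.mk 𝒜 hf m P hP) •
          mres _ (le_top : Proj.basicOpen 𝒜 f ≤ ⊤) (oneSec 𝒜 hf) = mres _ le_top σ →
      ∃ (h : A) (hh : h ∈ 𝒜 (1 • 1)), (Proj.awayToSection 𝒜 f).hom (Away.mk 𝒜 hf 1 h hh) •
          mres _ (le_top : Proj.basicOpen 𝒜 f ≤ ⊤) (oneSec 𝒜 hf) = mres _ le_top σ := by
    intro m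
    induction m with
    | zero =>
      intro P hP e
      refine ⟨P * f, by simpa using SetLike.mul_mem_graded hP hf,
        ((congrArg (· • _) (congrArg _ ?_))).trans e⟩
      apply HomogeneousLocalization.val_injective
      simp [Localization.mk_eq_mk_iff, Localization.r_iff_exists]
      exact ⟨1, by simp [mul_comm]⟩
    | succ m ih =>
      intro P hP e
      rcases Nat.eq_zero_or_pos m with rfl | hm
      · exact ⟨P, hP, e⟩
      obtain ⟨l, Q, hQ, e'⟩ := exists_local 𝒜 (hS g₀ hg₀).1 σ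
      have h1 := rel_of_eq 𝒜 hf (hS g₀ hg₀).1 hf0 (hne g₀ hg₀) hP hQ e e'
      obtain ⟨j, rfl⟩ : ∃ j, m = j + 1 := ⟨m - 1, by omega⟩
      have h2 : P * g₀ ^ (l + 1) = f * (Q * f ^ j * g₀ ^ 2) := by
        refine mul_left_cancel₀ hf0 ?_
        linear_combination h1
      obtain ⟨P', rfl⟩ : f ∣ P := by
        rcases hfp.dvd_or_dvd ⟨_, h2⟩ with h | h
        · exact h
        · exact absurd (hfp.dvd_of_dvd_pow h) (hS g₀ hg₀).2
      have hP' : P' ∈ 𝒜 ((j + 1) • 1) := by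
        rw [smul_eq_mul, mul_one] at hP ⊢
        exact mem_of_mul_mem 𝒜 hf hf0 hP
      refine ih P' hP' (((congrArg (· • _) (congrArg _ ?_))).trans e)
      apply HomogeneousLocalization.val_injective
      simp [Localization.mk_eq_mk_iff, Localization.r_iff_exists]
      exact ⟨1, by simp; ring⟩
  obtain ⟨m, P, hP, e⟩ := exists_local 𝒜 hf σ
  obtain ⟨h, hh', eh⟩ := red m P hP e
  have hh : h ∈ 𝒜 1 := by simpa using hh'
  have hres : ∀ g ∈ insert f S, ∃ hg : g ∈ 𝒜 1,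
      mres (Twist.twist 𝒜 1) (le_top : Proj.basicOpen 𝒜 g ≤ ⊤) σ = mres _ le_top (oneSec 𝒜 hh) := by
    rintro g (rfl | hg)
    · exact ⟨hf, eh.symm.trans (oneSec_rel 𝒜 hf hh hh')⟩
    · obtain ⟨l, Q, hQ, e'⟩ := exists_local 𝒜 (hS g hg).1 σ
      have h1 := rel_of_eq 𝒜 hf (hS g hg).1 hf0 (hne g hg) hh' hQ eh e'
      refine ⟨(hS g hg).1, e'.symm.trans ((congrArg (· • _) (congrArg _ ?_)).trans
        (oneSec_rel 𝒜 (hS g hg).1 hh hh'))⟩
      apply HomogeneousLocalization.val_injective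
      simp only [Away.val_mk, Localization.mk_eq_mk_iff, Localization.r_iff_exists]
      refine ⟨1, ?_⟩
      refine mul_left_cancel₀ (mul_ne_zero hf0 (hne g hg)) ?_
      simp only [OneMemClass.coe_one, one_mul]
      linear_combination -h1
  refine ⟨h, hh, Subtype.ext (funext fun x => ?_)⟩
  obtain ⟨g, hgS, hgx⟩ : ∃ g ∈ insert f S, g ∉ x.1.asHomogeneousIdeal := by
    by_contra! hall
    exact x.1.not_irrelevant_le fun a ha => Ideal.span_le.2 (fun g hg => hall g hg) (hcov ha)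
  obtain ⟨_, e''⟩ := hres g hgS
  exact congrArg (fun s : Γ(Twist.twist 𝒜 1, Proj.basicOpen 𝒜 g) => s.1 ⟨x.1, hgx⟩) e''

end Groth.Agent.ProjHyper
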