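import Groth.Agent.ProjHyper.GlobalOne
import Groth.Agent.ProjUPLib.SameRel
import Groth.Agent.GenLocus.PullFrame
import Groth.Agent.ProjCoord.Basic
import Groth.Prelude.Def_PicF2

/-!
# Hyperplanes in projective space
-/

set_option autoImplicit false
set_option backward.isDefEq.respectTransparency false
set_option backward.isDefEq.respectTransparency.types false

noncomputable section

universe u

open CategoryTheory AlgebraicGeometry Opposite TopologicalSpace HomogeneousLocalization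
open Groth.Agent.QCohBase Groth.Agent.GenLocus Groth.Agent.ProjUPLib

namespace Groth.Agent.ProjHyper

section ZeroScheme

variable {X : Scheme.{u}} [IsIntegral X]

/-- On an integral scheme, the zero scheme of a section is read off from its coefficients in frames. -/
theorem zeroScheme_eq {L : X.Modules} (s : Coh.structureModule X ⟶ L) (J : X.IdealSheafData)
    {ι : Type u} (D : ι → X.affineOpens) (hD : ⨆ i, (D i).1 = ⊤)
    (e : ∀ i, Γ(L, (D i).1)) (he : ∀ i, IsFrame L (e i)) (a : ∀ i, Γ(X, (D i).1))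
    (ha : ∀ i, PicF2.secVal L s (D i).1 = (a i • e i : Γ(L, (D i).1))) (ha0 : ∀ i, a i ≠ 0)
    (hJ : ∀ i, J.ideal (D i) = Ideal.span {a i}) :
    PicF2.zeroScheme L s = J := by
  refine le_antisymm (Scheme.IdealSheafData.le_of_iSup_eq_top D hD fun i b hb => ?_) ?_
  · obtain ⟨c, hc⟩ := Scheme.IdealSheafData.ideal_ofIdeals_le _ (D i) hb (e i)
    rw [hJ, Ideal.mem_span_singleton']
    let c' : Γ(X, (D i).1) := c
    refine ⟨c', ?_⟩
    have h : (b • e i : Γ(L, (D i).1)) = (c' * a i) • e i := by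
      rw [mul_smul, ← ha i]
      exact hc
    exact ((he i).bijective.1 h).symm
  rw [PicF2.zeroScheme, Scheme.IdealSheafData.le_ofIdeals_iff]
  intro V f hf m
  let m₀ : Γ(L, V.1) := m
  let σ : X.Opens → Type u := fun W => Γ(L, W)
  let ν : ∀ W : X.Opens, σ W := fun W => GenLocus.sect s W
  -- local quotients
  have hloc : ∀ x : V.1, ∃ (W : X.Opens) (_ : x.1 ∈ W) (hW : W ≤ V.1) (b : Γ(X, W)) (i : ι) (hi : W ≤ (D i).1),
      (ores hW f • mres L hW m₀ : Γ(L, W)) = b • GenLocus.sect s W := by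
    intro x
    obtain ⟨i, hi⟩ := Opens.mem_iSup.1 (hD.ge (Set.mem_univ x.1))
    obtain ⟨_, ⟨W, hW, rfl⟩, hxW, hWsub⟩ :=
      X.isBasis_affineOpens.exists_subset_of_mem_open
        (show x.1 ∈ ((V.1 ⊓ (D i).1 : X.Opens) : Set X) from ⟨x.2, hi⟩) (V.1 ⊓ (D i).1).isOpen
    have hWV : W ≤ V.1 := fun y hy => (hWsub hy).1
    have hWi : W ≤ (D i).1 := fun y hy => (hWsub hy).2
    obtain ⟨c, hc⟩ := ((he i).res hWi).bijective.2 (mres L hWV m₀)
    have hfW : ores hWV f ∈ Ideal.span {ores hWi (a i)} := by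
      have h1 : ores hWV f ∈ J.ideal ⟨W, hW⟩ := by
        rw [← J.map_ideal (U := ⟨W, hW⟩) (V := V) hWV]
        exact Ideal.mem_map_of_mem _ hf
      rw [← J.map_ideal (U := ⟨W, hW⟩) (V := D i) hWi, hJ i, Ideal.map_span, Set.image_singleton] at h1
      exact h1
    obtain ⟨g, hg⟩ := Ideal.mem_span_singleton'.1 hfW
    refine ⟨W, hxW, hWV, c * g, i, hWi, ?_⟩
    rw [← GenLocus.mres_sect s hWi]
    change _ = (c * g) • mres L hWi (PicF2.secVal L s (D i).1)
    rw [ha i, mres_smul, smul_smul, ← hc, ← hg, smul_smul]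
    congr 1
    ring
  choose W hxW hWV b ix hWi hb using hloc
  have huniq : ∀ (T : X.Opens) (i : ι) (_ : T ≤ (D i).1) (b₁ b₂ : Γ(X, T)),
      (b₁ • GenLocus.sect s T : Γ(L, T)) = b₂ • GenLocus.sect s T → b₁ = b₂ := by
    intro T i hT b₁ b₂ h
    rcases (T : Set X).eq_empty_or_nonempty with hT0 | ⟨t, ht⟩
    · have : Subsingleton Γ(X, T) := by
        rw [show T = ⊥ from Opens.ext hT0]; infer_instance
      exact Subsingleton.elim _ _
    rw [← GenLocus.mres_sect s hT] at h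
    change b₁ • mres L hT (PicF2.secVal L s (D i).1) = b₂ • mres L hT (PicF2.secVal L s (D i).1) at h
    rw [ha i, mres_smul, smul_smul, smul_smul] at h
    have h' := ((he i).res hT).bijective.1 h
    have : Nonempty T := ⟨⟨t, ht⟩⟩
    refine mul_right_cancel₀ (fun h0 => ha0 i ?_) h'
    have hne : Nonempty (D i).1 := ⟨⟨t, hT ht⟩⟩
    exact (map_eq_zero_iff _ (map_injective_of_isIntegral X (homOfLE hT))).1 h0
  obtain ⟨g, hg, -⟩ := X.sheaf.existsUnique_gluing' W V.1 (fun x => homOfLE (hWV x))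
    (fun x hx => Opens.mem_iSup.2 ⟨⟨x, hx⟩, hxW ⟨x, hx⟩⟩) b fun x y => by
      refine huniq _ (ix x) (inf_le_left.trans (hWi x)) _ _ ?_
      change ores (inf_le_left : W x ⊓ W y ≤ W x) (b x) • _ = ores (inf_le_right : W x ⊓ W y ≤ W y) (b y) • _
      have e1 := congrArg (mres L (inf_le_left : W x ⊓ W y ≤ W x)) (hb x)
      have e2 := congrArg (mres L (inf_le_right : W x ⊓ W y ≤ W y)) (hb y)
      simp only [mres_smul, mres_mres, GenLocus.mres_sect, ores_ores] at e1 e2
      exact e1.symm.trans e2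
  refine ⟨g, ?_⟩
  refine TopCat.Sheaf.eq_of_locally_eq' (⟨L.presheaf, L.isSheaf⟩ : TopCat.Sheaf Ab.{u} X) W V.1
    (fun x => homOfLE (hWV x)) (fun x hx => Opens.mem_iSup.2 ⟨⟨x, hx⟩, hxW ⟨x, hx⟩⟩) _ _ fun x => ?_
  change mres L (hWV x) (f • m₀ : Γ(L, V.1)) = mres L (hWV x) ((show Γ(X, V.1) from g) • GenLocus.sect s V.1)
  rw [mres_smul, mres_smul, GenLocus.mres_sect, hb x]
  exact congrArg (· • _) (hg x).symm

end ZeroScheme

section Map

variable {R A B : Type u} [CommRing R] [CommRing A] [Algebra R A] [CommRing B] [Algebra R B]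
  (𝒜 : ℕ → Submodule R A) [GradedAlgebra 𝒜] (ℬ : ℕ → Submodule R B) [GradedAlgebra ℬ] (φ : 𝒜 →+*ᵍ ℬ)

theorem irrelevant_le_map (hsurj : Function.Surjective φ) :
    HomogeneousIdeal.irrelevant ℬ ≤ (HomogeneousIdeal.irrelevant 𝒜).map φ := by
  classical
  refine toIdeal_le_toIdeal_iff.1 ((HomogeneousIdeal.toIdeal_irrelevant_le _).2 fun i hi x hx => ?_)
  obtain ⟨a, rfl⟩ := hsurj x
  have h : φ (DirectSum.decompose 𝒜 a i : A) = φ a := by
    rw [GradedRingHom.map_directSumDecompose, DirectSum.decompose_of_mem_same ℬ hx]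
  rw [← h]
  exact Ideal.mem_map_of_mem _ (HomogeneousIdeal.mem_irrelevant_of_mem 𝒜 hi (DirectSum.decompose 𝒜 a i).2)

variable (hirr : HomogeneousIdeal.irrelevant ℬ ≤ (HomogeneousIdeal.irrelevant 𝒜).map φ)

/-- The kernel of `Proj.map` on a standard open, when the homogeneous kernel is generated by `h`. -/
theorem ker_ideal [IsClosedImmersion (Proj.map φ hirr)] {h : A} (hh : h ∈ 𝒜 1)
    (hker : ∀ a, φ a = 0 ↔ h ∣ a) {f : A} (hf : f ∈ 𝒜 1) (hh' : h ∈ 𝒜 (1 • 1)) :
    (Proj.map φ hirr).ker.ideal ⟨_, Proj.isAffineOpen_basicOpen 𝒜 f hf one_pos⟩ =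
      Ideal.span {(Proj.awayToSection 𝒜 f).hom (Away.mk 𝒜 hf 1 h hh')} := by
  classical
  refine (Scheme.Hom.ker_apply _ _).trans ?_
  ext y
  obtain ⟨x, rfl⟩ := (EGA2G.awayToSection_bijective 𝒜 hf one_pos).2 y
  obtain ⟨n, a, ha, rfl⟩ := Away.mk_surjective 𝒜 hf x
  rw [RingHom.mem_ker, Scheme.Hom.app_eq_appLE]
  have hc := congrArg (fun ψ => ψ.hom (Away.mk 𝒜 hf n a ha)) (Proj.awayToSection_comp_appLE φ hirr hf)
  simp only [CommRingCat.hom_comp, RingHom.comp_apply, CommRingCat.hom_ofHom] at hc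
  erw [hc]
  refine (map_eq_zero_iff _ (EGA2G.awayToSection_bijective ℬ (φ.2 hf) one_pos).1).trans ?_
  rw [Away.map_mk]
  refine (HomogeneousLocalization.val_injective _).eq_iff.symm.trans ?_
  rw [HomogeneousLocalization.val_zero, Away.val_mk, Localization.mk_eq_mk', IsLocalization.mk'_eq_zero_iff]
  constructor
  · rintro ⟨⟨_, N, rfl⟩, hN⟩
    obtain ⟨b, hb⟩ : h ∣ f ^ N * a := (hker _).1 (by rw [map_mul, map_pow]; exact hN)
    have hfa : f ^ N * a ∈ 𝒜 (N + n) := by
      have := SetLike.mul_mem_graded (SetLike.pow_mem_graded N hf) ha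
      simpa using this
    rcases Nat.eq_zero_or_pos (N + n) with h0 | h0
    · obtain ⟨rfl, rfl⟩ : N = 0 ∧ n = 0 := by omega
      have h1 := DirectSum.coe_decompose_mul_of_left_mem_of_not_le 𝒜 (b := b) hh (n := 0) (by omega)
      rw [← hb, DirectSum.decompose_of_mem_same 𝒜 hfa, pow_zero, one_mul] at h1
      subst h1
      have : Away.mk 𝒜 hf 0 (0 : A) ha = 0 := by
        apply HomogeneousLocalization.val_injective
        simp [Localization.mk_zero]
      rw [this, map_zero]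
      exact zero_mem _
    · have h1 := DirectSum.coe_decompose_mul_of_left_mem_of_le 𝒜 (b := b) hh (n := N + n) h0
      rw [← hb, DirectSum.decompose_of_mem_same 𝒜 hfa] at h1
      rw [Ideal.mem_span_singleton]
      have hb' : ((DirectSum.decompose 𝒜 b (N + n - 1) : A)) ∈ 𝒜 ((N + n - 1) • 1) := by
        rw [smul_eq_mul, mul_one]; exact (DirectSum.decompose 𝒜 b (N + n - 1)).2
      refine ⟨(Proj.awayToSection 𝒜 f).hom (Away.mk 𝒜 hf (N + n - 1) _ hb'), ?_⟩
      rw [← map_mul]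
      congr 1
      apply HomogeneousLocalization.val_injective
      simp only [HomogeneousLocalization.val_mul, Away.val_mk, Localization.mk_mul,
        Localization.mk_eq_mk_iff, Localization.r_iff_exists]
      refine ⟨1, ?_⟩
      simp only [OneMemClass.coe_one, one_mul, MulMemClass.coe_mul]
      rw [← pow_add, show 1 + (N + n - 1) = N + n by omega, ← h1, pow_add]
      ring
  · intro hy
    rw [Ideal.mem_span_singleton] at hy
    obtain ⟨z, hz⟩ := hy
    obtain ⟨z, rfl⟩ := (EGA2G.awayToSection_bijective 𝒜 hf one_pos).2 z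
    obtain ⟨m, c, hc', rfl⟩ := Away.mk_surjective 𝒜 hf z
    rw [← map_mul] at hz
    have hz' := congrArg HomogeneousLocalization.val ((EGA2G.awayToSection_bijective 𝒜 hf one_pos).1 hz)
    simp only [HomogeneousLocalization.val_mul, Away.val_mk, Localization.mk_mul, Localization.mk_eq_mk_iff,
      Localization.r_iff_exists] at hz'
    obtain ⟨⟨_, p, rfl⟩, hp⟩ := hz'
    simp only [MulMemClass.coe_mul] at hp
    refine ⟨⟨φ (f ^ p * (f ^ 1 * f ^ m)), p + (1 + m), by simp [pow_add]⟩, ?_⟩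
    change φ (f ^ p * (f ^ 1 * f ^ m)) * φ a = 0
    rw [← map_mul, hker]
    exact ⟨f ^ p * (f ^ n * c), by linear_combination hp⟩

/-- `Proj.map` pulls `O(1)` back to `O(1)`. -/
theorem nonempty_pullback_iso {ι : Type u} (g : ι → A) (hg : ∀ i, g i ∈ 𝒜 1)
    (hcov : (HomogeneousIdeal.irrelevant ℬ).toIdeal ≤ Ideal.span (Set.range fun i => φ (g i))) :
    Nonempty ((Scheme.Modules.pullback (Proj.map φ hirr)).obj (Twist.twist 𝒜 1) ≅ Twist.twist ℬ 1) := by
  let r := Proj.map φ hirr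
  let U : ι → (Proj ℬ).Opens := fun i => Proj.basicOpen ℬ (φ (g i))
  have hle : ∀ i, U i ≤ r ⁻¹ᵁ Proj.basicOpen 𝒜 (g i) := fun i => le_rfl
  let a : ι → Γ((Scheme.Modules.pullback r).obj (Twist.twist 𝒜 1), ⊤) := fun i =>
    GenLocus.pullSec r (Twist.twist 𝒜 1) ⊤ (oneSec 𝒜 (hg i))
  have hres : ∀ i j, mres ((Scheme.Modules.pullback r).obj (Twist.twist 𝒜 1)) (le_top : U i ≤ ⊤) (a j) =
      mres _ (hle i) (GenLocus.pullSec r (Twist.twist 𝒜 1) (Proj.basicOpen 𝒜 (g i))
        (mres _ le_top (oneSec 𝒜 (hg j)))) := fun i j => by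
    rw [← pullSec_mres r (Twist.twist 𝒜 1) (le_top : Proj.basicOpen 𝒜 (g i) ≤ ⊤), mres_mres]
    rfl
  have hg' : ∀ i, g i ∈ 𝒜 (1 • 1) := fun i => by simpa using hg i
  have hφg : ∀ i, φ (g i) ∈ ℬ (1 • 1) := fun i => φ.2 (hg' i)
  obtain ⟨τ, -⟩ := exists_iso_of_same_rel U (Proj.iSup_basicOpen_eq_top ℬ (fun i => φ (g i)) hcov).ge a
    (fun i => oneSec ℬ (φ.2 (hg i)))
    (fun i => by rw [hres i i]; exact (IsFrame.pullSec r (isFrame_oneSec 𝒜 (hg i))).res (hle i))
    (fun i => isFrame_oneSec ℬ (φ.2 (hg i)))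
    (fun i j => (Proj.awayToSection ℬ (φ (g i))).hom (Away.mk ℬ (φ.2 (hg i)) 1 (φ (g j)) (hφg j)))
    (fun i j => by
      rw [hres i i, hres i j]
      have e := congrArg (fun m => mres _ (hle i) (GenLocus.pullSec r (Twist.twist 𝒜 1) _ m))
        (oneSec_rel 𝒜 (hg i) (hg j) (hg' j))
      simp only [pullSec_smul, mres_smul] at e
      refine Eq.trans (congrArg (· • _) ?_) e
      have hc := congrArg (fun ψ => ψ.hom (Away.mk 𝒜 (hg i) 1 (g j) (hg' j)))
        (Proj.awayToSection_comp_appLE φ hirr (hg i))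
      simp only [CommRingCat.hom_comp, RingHom.comp_apply, CommRingCat.hom_ofHom, Away.map_mk] at hc
      exact hc.symm)
    (fun i j => oneSec_rel ℬ (φ.2 (hg i)) (φ.2 (hg j)) (hφg j))
  exact ⟨τ⟩

/-- The image of `Proj.map` is the zero scheme of the generator of the kernel. -/
theorem zeroScheme_eq_ker [IsDomain A] [IsIntegral (Proj 𝒜)] [IsClosedImmersion (Proj.map φ hirr)]
    {h : A} (hh : h ∈ 𝒜 1) (hh' : h ∈ 𝒜 (1 • 1)) (h0 : h ≠ 0)
    (hker : ∀ a, φ a = 0 ↔ h ∣ a) {ι : Type u} (g : ι → A) (hg : ∀ i, g i ∈ 𝒜 1) (hg0 : ∀ i, g i ≠ 0)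
    (hcov : (HomogeneousIdeal.irrelevant 𝒜).toIdeal ≤ Ideal.span (Set.range g))
    (s : Coh.structureModule (Proj 𝒜) ⟶ Twist.twist 𝒜 1) (hσ : GenLocus.sect s ⊤ = oneSec 𝒜 hh) :
    PicF2.zeroScheme _ s = (Proj.map φ hirr).ker := by
  let D : ι → (Proj 𝒜).affineOpens := fun i => ⟨_, Proj.isAffineOpen_basicOpen 𝒜 (g i) (hg i) one_pos⟩
  refine zeroScheme_eq s _ D (Proj.iSup_basicOpen_eq_top 𝒜 g hcov)
    (fun i => mres _ le_top (oneSec 𝒜 (hg i))) (fun i => isFrame_oneSec 𝒜 (hg i))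
    (fun i => (Proj.awayToSection 𝒜 (g i)).hom (Away.mk 𝒜 (hg i) 1 h hh')) (fun i => ?_)
    (fun i h1 => h0 ?_) fun i => ker_ideal 𝒜 ℬ φ hirr hh hker (hg i) hh'
  · refine Eq.trans ?_ (oneSec_rel 𝒜 (hg i) hh hh').symm
    rw [← hσ, GenLocus.mres_sect]
  · have h2 := congrArg HomogeneousLocalization.val
      ((map_eq_zero_iff _ (EGA2G.awayToSection_bijective 𝒜 (hg i) one_pos).1).1 h1)
    rw [Away.val_mk, HomogeneousLocalization.val_zero, Localization.mk_eq_mk', IsLocalization.mk'_eq_zero_iff] at h2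
    obtain ⟨⟨_, m, rfl⟩, hm⟩ := h2
    exact (mul_eq_zero.1 hm).resolve_left (pow_ne_zero m (hg0 i))

end Map

section Space

variable (k : Type u) [Field k] (n : ℕ)

open MvPolynomial

theorem exists_linear {h : MvPolynomial (Fin (n + 2)) k} (hh : h ∈ CohB1.polyGrading (n + 1) k 1) (h0 : h ≠ 0) :
    ∃ φ : CohB1.polyGrading (n + 1) k →+*ᵍ CohB1.polyGrading n k,
      Function.Surjective φ ∧ (∀ a, φ a = 0 ↔ h ∣ a) ∧
      ∃ p : Fin (n + 2), ∀ j : Fin (n + 1), φ (X (p.succAbove j)) = X j := by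
  classical
  have hspan : h ∈ Submodule.span k (Set.range (X : Fin (n + 2) → MvPolynomial (Fin (n + 2)) k)) :=
    homogeneousSubmodule_one_eq_span_X.le hh
  obtain ⟨c, hc⟩ := (Submodule.mem_span_range_iff_exists_fun k).1 hspan
  obtain ⟨p, hp⟩ : ∃ p, c p ≠ 0 := by
    by_contra! hall
    exact h0 (by rw [← hc]; simp [hall])
  rw [Fin.sum_univ_succAbove _ p] at hc
  let v : Fin (n + 2) → MvPolynomial (Fin (n + 1)) k :=
    Fin.insertNth (α := fun _ => MvPolynomial (Fin (n + 1)) k) p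
      (-∑ j, (c (p.succAbove j) / c p) • X j) X
  have hv : ∀ i, v i ∈ CohB1.polyGrading n k 1 := by
    intro i
    obtain hi | ⟨j, rfl⟩ := Fin.eq_self_or_eq_succAbove p i
    · rw [hi]; simp only [v, Fin.insertNth_apply_same]
      exact neg_mem (Submodule.sum_mem _ fun j _ => Submodule.smul_mem _ _ (isHomogeneous_X k j))
    · simp only [v, Fin.insertNth_apply_succAbove]; exact isHomogeneous_X k j
  let φ : CohB1.polyGrading (n + 1) k →+*ᵍ CohB1.polyGrading n k :=
    { toRingHom := (aeval v).toRingHom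
      map_mem := fun {i x} hx => by
        have := MvPolynomial.IsHomogeneous.aeval (S := k) hx v hv
        rw [one_mul] at this
        exact this }
  have hφ : ∀ a, φ a = aeval v a := fun a => rfl
  have hφh : φ h = 0 := by
    rw [hφ, ← hc]
    simp only [map_add, map_sum, map_smul, aeval_X, v, Fin.insertNth_apply_same, Fin.insertNth_apply_succAbove]
    rw [smul_neg, Finset.smul_sum, neg_add_eq_zero]
    refine Finset.sum_congr rfl fun j _ => ?_
    rw [smul_smul, mul_div_cancel₀ _ hp]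
  let ψ : MvPolynomial (Fin (n + 1)) k →ₐ[k] MvPolynomial (Fin (n + 2)) k := aeval fun j => X (p.succAbove j)
  have hsec : ∀ b, φ (ψ b) = b := by
    intro b
    have : (aeval v).comp ψ = AlgHom.id k _ := algHom_ext fun j => by
      simp [ψ, v, Fin.insertNth_apply_succAbove]
    exact AlgHom.congr_fun this b
  have hsub : ∀ a, h ∣ a - ψ (φ a) := by
    intro a
    induction a using MvPolynomial.induction_on with
    | C a => simp [hφ, ψ]
    | add a b ha hb =>
      rw [map_add, map_add, add_sub_add_comm]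
      exact dvd_add ha hb
    | mul_X a i ha =>
      have hi : h ∣ X i - ψ (v i) := by
        obtain hi | ⟨j, rfl⟩ := Fin.eq_self_or_eq_succAbove p i
        rotate_left
        · simp [ψ, v, Fin.insertNth_apply_succAbove]
        · rw [hi]
          refine ⟨C (c p)⁻¹, ?_⟩
          simp only [v, ψ, Fin.insertNth_apply_same, map_neg, map_sum, map_smul, aeval_X, sub_neg_eq_add]
          rw [← hc, mul_comm, ← smul_eq_C_mul, smul_add, Finset.smul_sum, smul_smul, inv_mul_cancel₀ hp, one_smul]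
          congr 1
          refine Finset.sum_congr rfl fun j _ => ?_
          rw [smul_smul, div_eq_inv_mul]
      rw [map_mul, map_mul, show φ (X i) = v i from aeval_X v i,
        show a * X i - ψ (φ a) * ψ (v i) = (a - ψ (φ a)) * X i + ψ (φ a) * (X i - ψ (v i)) by ring]
      exact dvd_add (ha.mul_right _) (hi.mul_left _)
  refine ⟨φ, fun b => ⟨ψ b, hsec b⟩, fun a => ⟨fun ha => ?_, fun ⟨b, hb⟩ => by rw [hb, map_mul, hφh, zero_mul]⟩,
    p, fun j => (aeval_X v _).trans (Fin.insertNth_apply_succAbove ..)⟩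
  have := hsub a
  rwa [ha, map_zero, sub_zero] at this

theorem isIntegral_projSpace : IsIntegral (Proj (CohB1.polyGrading n k)) := by
  refine (EGA2G.proj_isIntegral_iff _ fun f _ h => h.eq_zero).2
    ⟨⟨X 0, HomogeneousIdeal.mem_irrelevant_of_mem _ one_pos (isHomogeneous_X k 0), X_ne_zero 0⟩,
      fun f _ g _ h => mul_eq_zero.1 h⟩

theorem exists_hyperplane_iso
    (s : Coh.structureModule (Proj (CohB1.polyGrading (n + 1) k)) ⟶ Twist.twist (CohB1.polyGrading (n + 1) k) 1)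
    (hs : s ≠ 0) :
    ∃ φ : Proj (CohB1.polyGrading n k) ≅ (PicF2.zeroScheme _ s).subscheme,
      Nonempty ((Scheme.Modules.pullback (φ.hom ≫ (PicF2.zeroScheme _ s).subschemeι)).obj
          (Twist.twist (CohB1.polyGrading (n + 1) k) 1) ≅ Twist.twist (CohB1.polyGrading n k) 1) := by
  classical
  let 𝒜 := CohB1.polyGrading (n + 1) k
  have hcov := ProjCoord.irrelevant_le_span_X (R := k) (n := n + 1)
  obtain ⟨h, hh, hσ⟩ := exists_oneSec_eq 𝒜 (ProjCoord.X_mem 0) X_prime
    (Set.range fun j : Fin (n + 1) => (X j.succ : MvPolynomial (Fin (n + 2)) k))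
    (by
      rintro _ ⟨j, rfl⟩
      exact ⟨ProjCoord.X_mem _, fun hd => (Fin.succ_ne_zero j) (X_dvd_X.1 hd).symm⟩)
    (hcov.trans (Ideal.span_mono (by
      rintro _ ⟨i, rfl⟩
      cases i using Fin.cases with
      | zero => exact Set.mem_insert _ _
      | succ j => exact Set.mem_insert_of_mem _ ⟨j, rfl⟩))) (Set.range_nonempty _) (GenLocus.sect s ⊤)
  have hh' : h ∈ 𝒜 (1 • 1) := by simpa using hh
  have h0 : h ≠ 0 := by
    rintro rfl
    refine hs (Scheme.Modules.hom_ext _ _ fun U => ConcreteCategory.hom_ext _ _ fun r => ?_)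
    refine (GenLocus.app_eq_smul s U r).trans ?_
    rw [← GenLocus.mres_sect s (le_top : U ≤ ⊤), hσ, show oneSec 𝒜 hh = 0 from
      Subtype.ext (funext fun x => Subtype.ext (Localization.mk_zero _)), map_zero, smul_zero]
    rfl
  obtain ⟨φ, hsurj, hker, p, hp⟩ := exists_linear k n hh h0
  have hirr := irrelevant_le_map _ _ φ hsurj
  have hcl : IsClosedImmersion (Proj.map φ hirr) := EGA2G.proj_map_isClosedImmersion _ _ φ hirr hsurj
  have : IsIntegral (Proj 𝒜) := isIntegral_projSpace k (n + 1)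
  have hz : PicF2.zeroScheme _ s = (Proj.map φ hirr).ker :=
    zeroScheme_eq_ker 𝒜 _ φ hirr hh hh' h0 hker (fun i : ULift.{u} (Fin (n + 2)) => X i.down)
      (fun i => ProjCoord.X_mem i.down) (fun i => X_ne_zero _)
      (hcov.trans (Ideal.span_mono (by rintro _ ⟨i, rfl⟩; exact ⟨⟨i⟩, rfl⟩))) s hσ
  rw [hz]
  have : IsIso (Proj.map φ hirr).toImage := inferInstance
  refine ⟨asIso (Proj.map φ hirr).toImage, ?_⟩
  rw [asIso_hom, show (Proj.map φ hirr).toImage ≫ (Proj.map φ hirr).ker.subschemeι = Proj.map φ hirr from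
    (Proj.map φ hirr).toImage_imageι]
  exact nonempty_pullback_iso _ _ φ hirr (fun j : ULift.{u} (Fin (n + 1)) => X (p.succAbove j.down))
    (fun j => ProjCoord.X_mem _) ((ProjCoord.irrelevant_le_span_X (R := k) (n := n)).trans
      (Ideal.span_mono (by rintro _ ⟨i, rfl⟩; exact ⟨⟨i⟩, hp i⟩)))

end Space

end Groth.Agent.ProjHyper
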